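import Cfsg.Agent.Lib.CosetCert.D.HeN.Lv0.Tab
import Cfsg.Agent.Lib.CosetCert.D.HeN.Lv0.C0
import Cfsg.Agent.Lib.CosetCert.D.HeN.Lv0.R0
import Cfsg.Agent.Lib.CosetCert.D.HeN.Lv0.R1
import Cfsg.Agent.Lib.CosetCert.D.HeN.Lv0.S0

namespace Cfsg.Agent.Lib.CosetCert.D.HeN.Lv0.Ok

open Cfsg.Agent.Lib.CosetCert Cfsg.Agent.Lib.TC.Core Cfsg.Agent.Lib.TC.Enc Cfsg.Agent.Lib.TC.Pres Cfsg.Agent.Lib.TC.Perm Cfsg.Agent.Lib.TC.Main

set_option maxRecDepth 100000

open Cfsg.Agent.Lib.CosetCert.D.HeN.Lv0.Tab Cfsg.Agent.Lib.CosetCert.D.HeN.Tbl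

/-- The point of the orbit. -/
noncomputable def pt : ℕ → ℕ := cell 8 255 (nat_lit 0x87868584838281807f7e7d7c7b7a797877767574737271706f6e6d6c6b6a696867666564636261605f5e5d5c5b5a595857565554535251504f4e4d4c4b4a494847464544434241403f3e3d3c3b3a393837363534333231302f2e2d2c2b2a292827262524232221201f1e1d1c1b1a191817161514131211100f0e0d0c0b0a09080706050403020100)

/-- The index of a point. -/
noncomputable def ptInv : ℕ → ℕ := cell 8 255 (nat_lit 0x87868584838281807f7e7d7c7b7a797877767574737271706f6e6d6c6b6a696867666564636261605f5e5d5c5b5a595857565554535251504f4e4d4c4b4a494847464544434241403f3e3d3c3b3a393837363534333231302f2e2d2c2b2a292827262524232221201f1e1d1c1b1a191817161514131211100f0e0d0c0b0a09080706050403020100)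

/-- The tree: parents. -/
noncomputable def tp : ℕ → ℕ := cell 8 255 (nat_lit 0x7f7f7c7372696968655b5b5b5a59585754534f4f4d4d4c4b47464544434343403f3f3f3e3d3c3b34343333333331312f2f2e2d2c2b2a2a2929282827262525252423222222212121211f1d1d1d1c1b18181717171716161515141312121211100f0f0f0e0e0e0e0d0d0c0c0b0a090909090807060606050505050403020202010101010000000000)

/-- The tree: letters. -/
noncomputable def tl : ℕ → ℕ := cell 3 7 (nat_lit 0x40bb6236371d26a88995bb11b1b76596315444b76434b7606ec36316204d96230d2dd81bb0d8cc34b7620dd86c61bb0d8cd8d0)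

theorem hrelk : ∀ l ∈ rels, ∀ z ∈ l, z < L0.k := by decide +kernel

theorem hsubk : ∀ l ∈ subs, ∀ z ∈ l, z < L0.k := by decide +kernel

theorem hrelR : allR (guard 136 (wordFixes F0 rels)) 8 0 = true :=
  (allR_node (d := 7) (lo := 0) (mid := 128) rfl Cfsg.Agent.Lib.CosetCert.D.HeN.Lv0.R0.ok Cfsg.Agent.Lib.CosetCert.D.HeN.Lv0.R1.ok)

theorem hsubR : allR (guard 136 (fun x => wordIs F0 F1 subs x 0)) 8 0 = true :=
  Cfsg.Agent.Lib.CosetCert.D.HeN.Lv0.S0.ok

theorem allC0 : cert.chkRange 0 138 = true := Cfsg.Agent.Lib.CosetCert.D.HeN.Lv0.C0.ok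
theorem allF0 : cert.chkFinal 0 138 = true := Cfsg.Agent.Lib.CosetCert.D.HeN.Lv0.C0.fin

theorem h0 : cert.eLvl (cert.par (cert.find cert.MAX cert.D 0)) = cert.MAX := by decide +kernel

theorem hcount : cert.countRoots cert.N = 136 := by
  rw [countRoots_eq_acc]
  decide +kernel

theorem hchecked : Checked cert where
  hN := by decide
  hC := allC0
  hF := allF0
  h0 := h0

theorem h1 : chkRelRots cert inv0 rels witT.get = true := by decide +kernel

theorem h2 : chkSubRots cert subs = true := by decide +kernel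

theorem hfix : allLt (fun s => Nat.beq (F1 s 0) 0) 4 = true := by decide +kernel

theorem horb : allR (guard 136 (orbOK F0 pt ptInv tp tl 6)) 8 0 = true := by decide +kernel

/-- The point. -/
def p : Fin 136 := ⟨0, by decide⟩

theorem h0pt : pt 0 = p := by decide +kernel

/-- The level. -/
theorem result : LevelResult L0.G L1.G p 136 pt :=
  level_of_checks L0 L1 cert rfl rels subs witT.get hrelk
    (all_of_allR (by decide) hrelR) hsubk
    (all_of_allR (by decide) hsubR)
    (by decide) (by decide) h1 h2 hchecked hcount p (fun s hs => Nat.eq_of_beq_eq_true (allLt_spec hfix s hs))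
    pt ptInv tp tl h0pt (all_of_allR (by decide) horb)

end Cfsg.Agent.Lib.CosetCert.D.HeN.Lv0.Ok
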