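import Cfsg.Agent.Lib.CosetCert.D.HeN.Tbl
import Cfsg.Agent.Lib.CosetCert.D.HeN.Lv0.CT

namespace Cfsg.Agent.Lib.CosetCert.D.HeN.Lv0.Tab

open Cfsg.Agent.Lib.CosetCert Cfsg.Agent.Lib.TC.Core Cfsg.Agent.Lib.TC.Enc Cfsg.Agent.Lib.TC.Pres Cfsg.Agent.Lib.TC.Perm Cfsg.Agent.Lib.TC.Main

set_option maxRecDepth 100000

open Cfsg.Agent.Lib.CosetCert.D.HeN.Tbl

/-- The chunks. -/
noncomputable def ctree : Tr Nat := Cfsg.Agent.Lib.CosetCert.D.HeN.Lv0.CT.tree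

/-- The relator rotations. -/
noncomputable def rotT : Tr (List Nat) := (Tr.node (Tr.node (Tr.node (Tr.node (Tr.node (Tr.node (Tr.node (Tr.leaf []) (Tr.leaf [0,0])) (Tr.node (Tr.leaf [5,2,5,3,2,3]) (Tr.leaf []))) (Tr.node (Tr.node (Tr.leaf [2,3,2,3]) (Tr.leaf [])) (Tr.node (Tr.leaf [5,3,1,5,3,4,3,4,1,3,4,1,3]) (Tr.leaf [])))) (Tr.node (Tr.node (Tr.node (Tr.leaf [4,0,5,0]) (Tr.leaf [])) (Tr.node (Tr.leaf [0,3,0,1,3,1,3,1]) (Tr.leaf []))) (Tr.node (Tr.node (Tr.leaf [3,0,3,5,0,4]) (Tr.leaf [])) (Tr.node (Tr.leaf [3,1,3,4,2,1,0,1,2,1,2,1,0,1,2,4,3,1]) (Tr.leaf []))))) (Tr.node (Tr.node (Tr.node (Tr.node (Tr.leaf [0,2,0,2]) (Tr.leaf [4,5])) (Tr.node (Tr.leaf [4,3,4,3,4,3]) (Tr.leaf []))) (Tr.node (Tr.node (Tr.leaf [5,2,5,2]) (Tr.leaf [])) (Tr.node (Tr.leaf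 [1,0,1,2,1,0,1,0,1,2,1,0,1,2,0]) (Tr.leaf [])))) (Tr.node (Tr.node (Tr.node (Tr.leaf [1,4,1,4]) (Tr.leaf [])) (Tr.node (Tr.leaf [0,5,0,1,3,4,3,4,3,1]) (Tr.leaf []))) (Tr.node (Tr.node (Tr.leaf [3,1,3,1,3,1]) (Tr.leaf [])) (Tr.node (Tr.leaf [1,2,3,1,0,1,2,3,1,0,1,2,3,1,0,1,3,2,1,0]) (Tr.leaf [])))))) (Tr.node (Tr.node (Tr.node (Tr.node (Tr.node (Tr.leaf [5,5,5]) (Tr.leaf [2,2])) (Tr.node (Tr.leaf [4,3,4,3,4,3]) (Tr.leaf []))) (Tr.node (Tr.node (Tr.leaf [2,4,2,4]) (Tr.leaf [])) (Tr.node (Tr.leaf [3,4,3,1,0,1,2,5,2,1,0,1,3,4]) (Tr.leaf [])))) (Tr.node (Tr.node (Tr.node (Tr.leaf [5,0,4,0]) (Tr.leaf [])) (Tr.node (Tr.leaf [3,0,1,3,4,1,4,3,1,0]) (Tr.leaf []))) (Tr.node (Tr.node (Tr.leaf [2,1,2,1,2,1]) (Tr.leaf [])) (Tr.node (Tr.leaf [1,2,0,1,0,1,0,1,0,1,2,1,0,1,0,1,0,1,0,2])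 (Tr.leaf []))))) (Tr.node (Tr.node (Tr.node (Tr.node (Tr.leaf [0,3,0,3]) (Tr.leaf [])) (Tr.node (Tr.leaf [5,3,5,3,5,3]) (Tr.leaf []))) (Tr.node (Tr.node (Tr.leaf [3,0,3,4,0,5]) (Tr.leaf [])) (Tr.node (Tr.leaf [1,2,1,0,1,0,2,1,0,2,1,2,0,1,0]) (Tr.leaf [])))) (Tr.node (Tr.node (Tr.node (Tr.leaf [5,1,5,1]) (Tr.leaf [])) (Tr.node (Tr.leaf [1,4,3,1,2,3,2,1,3,4]) (Tr.leaf []))) (Tr.node (Tr.node (Tr.leaf [4,2,4,3,2,3]) (Tr.leaf [])) (Tr.node (Tr.leaf [2,1,0,1,0,2,1,0,1,0,3,4,2,4,3,0,1,0,1,0,1]) (Tr.leaf []))))))) (Tr.node (Tr.node (Tr.node (Tr.node (Tr.node (Tr.node (Tr.leaf [4,4,4]) (Tr.leaf [1,1])) (Tr.node (Tr.leaf [3,2,3,5,2,5]) (Tr.leaf []))) (Tr.node (Tr.node (Tr.leaf [4,2,4,2]) (Tr.leaf [])) (Tr.node (Tr.leaf [5,3,5,3,1,0,1,2,4,2,1,0,1,3]) (Tr.leaf []))))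 (Tr.node (Tr.node (Tr.node (Tr.leaf [0,5,0,4]) (Tr.leaf [])) (Tr.node (Tr.leaf [1,5,1,3,4,3,4,3]) (Tr.leaf []))) (Tr.node (Tr.node (Tr.leaf [1,2,1,2,1,2]) (Tr.leaf [])) (Tr.node (Tr.leaf [1,3,4,2,1,0,1,2,1,2,1,0,1,2,4,3,1,3]) (Tr.leaf []))))) (Tr.node (Tr.node (Tr.node (Tr.node (Tr.leaf [3,0,3,0]) (Tr.leaf [5,4])) (Tr.node (Tr.leaf [3,5,3,5,3,5]) (Tr.leaf []))) (Tr.node (Tr.node (Tr.leaf [4,0,5,3,0,3]) (Tr.leaf [])) (Tr.node (Tr.leaf [2,1,0,1,2,1,0,1,0,1,2,1,0,1,0]) (Tr.leaf [])))) (Tr.node (Tr.node (Tr.node (Tr.leaf [1,5,1,5]) (Tr.leaf [])) (Tr.node (Tr.leaf [1,3,5,3,5,3,1,0,4,0]) (Tr.leaf []))) (Tr.node (Tr.node (Tr.leaf [1,3,1,3,1,3]) (Tr.leaf [])) (Tr.node (Tr.leaf [3,1,3,1,0,1,3,5,2,1,3,2,3,1,2,5,3,1,0,1]) (Tr.leaf [])))))) (Tr.node (Tr.node (Tr.node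 (Tr.node (Tr.node (Tr.leaf [2,0,2,0]) (Tr.leaf [3,3])) (Tr.node (Tr.leaf [3,4,3,4,3,4]) (Tr.leaf []))) (Tr.node (Tr.node (Tr.leaf [2,5,2,5]) (Tr.leaf [])) (Tr.node (Tr.leaf [2,1,3,4,1,2,1,2,1,4,3,1,2,1]) (Tr.leaf [])))) (Tr.node (Tr.node (Tr.node (Tr.leaf [4,1,4,1]) (Tr.leaf [])) (Tr.node (Tr.leaf [1,3,4,3,4,3,1,0,5,0]) (Tr.leaf []))) (Tr.node (Tr.node (Tr.leaf [1,2,1,2,1,2]) (Tr.leaf [])) (Tr.node (Tr.leaf [0,1,0,1,0,1,3,1,0,1,0,1,0,1,0,1,3,1,0,1]) (Tr.leaf []))))) (Tr.node (Tr.node (Tr.node (Tr.node (Tr.leaf [0,4,0,5]) (Tr.leaf [])) (Tr.node (Tr.leaf [1,2,1,2,1,0,2,0]) (Tr.leaf []))) (Tr.node (Tr.node (Tr.leaf [5,0,4,3,0,3]) (Tr.leaf [])) (Tr.node (Tr.leaf [0,1,0,2,1,0,2,1,2,0,1,0,1,2,1]) (Tr.leaf [])))) (Tr.node (Tr.node (Tr.node (Tr.leaf [3,2,3,2])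 (Tr.leaf [])) (Tr.node (Tr.leaf [1,3,4,3,4,3,1,2,4,2]) (Tr.leaf []))) (Tr.node (Tr.node (Tr.leaf [3,2,3,4,2,4]) (Tr.leaf [])) (Tr.node (Tr.leaf [0,1,2,0,1,3,1,0,1,2,0,1,3,1,0,1,0,2,1,3,1]) (Tr.leaf []))))))))

/-- The witnesses of the rotations. -/
noncomputable def witT : Tr (Nat × Nat × Bool) := (Tr.node (Tr.node (Tr.node (Tr.node (Tr.node (Tr.node (Tr.node (Tr.leaf (0,0,false)) (Tr.leaf (41,0,false))) (Tr.node (Tr.leaf (20,1,true)) (Tr.leaf (0,0,false)))) (Tr.node (Tr.node (Tr.leaf (14,2,false)) (Tr.leaf (0,0,false))) (Tr.node (Tr.leaf (29,5,false)) (Tr.leaf (0,0,false))))) (Tr.node (Tr.node (Tr.node (Tr.leaf (12,1,false)) (Tr.leaf (0,0,false))) (Tr.node (Tr.leaf (23,6,false)) (Tr.leaf (0,0,false)))) (Tr.node (Tr.node (Tr.leaf (17,5,false)) (Tr.leaf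 (0,0,false))) (Tr.node (Tr.leaf (34,12,false)) (Tr.leaf (0,0,false)))))) (Tr.node (Tr.node (Tr.node (Tr.node (Tr.leaf (10,2,false)) (Tr.leaf (41,4,false))) (Tr.node (Tr.leaf (21,3,false)) (Tr.leaf (0,0,false)))) (Tr.node (Tr.node (Tr.leaf (15,2,true)) (Tr.leaf (0,0,false))) (Tr.node (Tr.leaf (32,1,false)) (Tr.leaf (0,0,false))))) (Tr.node (Tr.node (Tr.node (Tr.leaf (13,2,false)) (Tr.leaf (0,0,false))) (Tr.node (Tr.leaf (26,8,false)) (Tr.leaf (0,0,false)))) (Tr.node (Tr.node (Tr.leaf (19,1,false)) (Tr.leaf (0,0,false))) (Tr.node (Tr.leaf (37,1,false)) (Tr.leaf (0,0,false))))))) (Tr.node (Tr.node (Tr.node (Tr.node (Tr.node (Tr.leaf (9,1,true)) (Tr.leaf (41,2,false))) (Tr.node (Tr.leaf (21,1,false)) (Tr.leaf (0,0,false)))) (Tr.node (Tr.node (Tr.leaf (15,2,false))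 (Tr.leaf (0,0,false))) (Tr.node (Tr.leaf (30,3,true)) (Tr.leaf (0,0,false))))) (Tr.node (Tr.node (Tr.node (Tr.leaf (12,3,false)) (Tr.leaf (0,0,false))) (Tr.node (Tr.leaf (25,9,false)) (Tr.leaf (0,0,false)))) (Tr.node (Tr.node (Tr.leaf (18,1,false)) (Tr.leaf (0,0,false))) (Tr.node (Tr.leaf (35,18,false)) (Tr.leaf (0,0,false)))))) (Tr.node (Tr.node (Tr.node (Tr.node (Tr.leaf (11,2,false)) (Tr.leaf (0,0,false))) (Tr.node (Tr.leaf (21,2,true)) (Tr.leaf (0,0,false)))) (Tr.node (Tr.node (Tr.leaf (16,5,false)) (Tr.leaf (0,0,false))) (Tr.node (Tr.leaf (33,3,false)) (Tr.leaf (0,0,false))))) (Tr.node (Tr.node (Tr.node (Tr.leaf (13,2,true)) (Tr.leaf (0,0,false))) (Tr.node (Tr.leaf (27,7,false)) (Tr.leaf (0,0,false)))) (Tr.node (Tr.node (Tr.leaf (20,2,false)) (Tr.leaf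 (0,0,false))) (Tr.node (Tr.leaf (39,6,false)) (Tr.leaf (0,0,false)))))))) (Tr.node (Tr.node (Tr.node (Tr.node (Tr.node (Tr.node (Tr.leaf (9,1,false)) (Tr.leaf (41,1,false))) (Tr.node (Tr.leaf (20,4,true)) (Tr.leaf (0,0,false)))) (Tr.node (Tr.node (Tr.leaf (15,1,false)) (Tr.leaf (0,0,false))) (Tr.node (Tr.leaf (30,9,false)) (Tr.leaf (0,0,false))))) (Tr.node (Tr.node (Tr.node (Tr.leaf (12,2,false)) (Tr.leaf (0,0,false))) (Tr.node (Tr.leaf (24,6,false)) (Tr.leaf (0,0,false)))) (Tr.node (Tr.node (Tr.leaf (18,0,false)) (Tr.leaf (0,0,false))) (Tr.node (Tr.leaf (34,13,false)) (Tr.leaf (0,0,false)))))) (Tr.node (Tr.node (Tr.node (Tr.node (Tr.leaf (11,1,false)) (Tr.leaf (41,5,false))) (Tr.node (Tr.leaf (21,1,true)) (Tr.leaf (0,0,false)))) (Tr.node (Tr.node (Tr.leaf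 (16,2,false)) (Tr.leaf (0,0,false))) (Tr.node (Tr.leaf (32,0,true)) (Tr.leaf (0,0,false))))) (Tr.node (Tr.node (Tr.node (Tr.leaf (13,1,true)) (Tr.leaf (0,0,false))) (Tr.node (Tr.leaf (26,2,true)) (Tr.leaf (0,0,false)))) (Tr.node (Tr.node (Tr.leaf (19,2,false)) (Tr.leaf (0,0,false))) (Tr.node (Tr.leaf (38,15,true)) (Tr.leaf (0,0,false))))))) (Tr.node (Tr.node (Tr.node (Tr.node (Tr.node (Tr.leaf (10,1,false)) (Tr.leaf (41,3,false))) (Tr.node (Tr.leaf (21,2,false)) (Tr.leaf (0,0,false)))) (Tr.node (Tr.node (Tr.leaf (15,1,true)) (Tr.leaf (0,0,false))) (Tr.node (Tr.leaf (31,3,false)) (Tr.leaf (0,0,false))))) (Tr.node (Tr.node (Tr.node (Tr.leaf (13,1,false)) (Tr.leaf (0,0,false))) (Tr.node (Tr.leaf (26,1,false)) (Tr.leaf (0,0,false)))) (Tr.node (Tr.node (Tr.leaf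 (18,2,false)) (Tr.leaf (0,0,false))) (Tr.node (Tr.leaf (36,2,false)) (Tr.leaf (0,0,false)))))) (Tr.node (Tr.node (Tr.node (Tr.node (Tr.leaf (12,0,false)) (Tr.leaf (0,0,false))) (Tr.node (Tr.leaf (22,1,false)) (Tr.leaf (0,0,false)))) (Tr.node (Tr.node (Tr.leaf (17,2,false)) (Tr.leaf (0,0,false))) (Tr.node (Tr.leaf (33,6,false)) (Tr.leaf (0,0,false))))) (Tr.node (Tr.node (Tr.node (Tr.leaf (14,1,false)) (Tr.leaf (0,0,false))) (Tr.node (Tr.leaf (28,4,false)) (Tr.leaf (0,0,false)))) (Tr.node (Tr.node (Tr.leaf (20,5,false)) (Tr.leaf (0,0,false))) (Tr.node (Tr.leaf (40,4,true)) (Tr.leaf (0,0,false)))))))))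

/-- The subgroup rotations. -/
noncomputable def srotT : Tr (List Nat × Nat × List Nat) := (Tr.node (Tr.node (Tr.leaf ([],0,[])) (Tr.leaf ([3,1,4,3,5],2,[1,3]))) (Tr.node (Tr.leaf ([2,3,1,2],0,[1,3,2])) (Tr.leaf ([],0,[]))))

/-- The certificate. -/
noncomputable def cert : Cert :=
  mkCert 6 138 818 2 70 73 6 63 185 25 150 174 33554431 16777215 10 8 1023 255 18 16 7 ctree.get rotT.get srotT.get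

/-- The relators. -/
def rels : List (List Nat) :=
  [[0,4,3,5,1,3,0,1,0,4,3,5,1,3,0,1,0,4,3,5,1,3,0,1,0,4,3,5,1,3,0,1,0,4,3,5,1,3,0,1,0,4,3,5,1,3,0,1,0,4,3,5,1,3,0,1,0,4,3,5,1,3,0,1,0,4,3,5,1,3,0,1,0,4,3,5,1,3,0,1,0,4,3,5,1,3,0,1,0,4,3,5,1,3,0,1,0,4,3,5,1,3,0,1,0,4,3,5,1,3,0,1,0,4,3,5,1,3,0,1,0,4,3,5,1,3,0,1,0,4,3,5,1,3,0,1],
   [1,0,3,1,4,3,5,1,0,3,1,4,3,5,1,0,3,1,4,3,5,1,0,3,1,4,3,5,1,0,3,1,4,3,5,1,0,3,1,4,3,5,1,0,3,1,4,3,5,1,0,3,1,4,3,5,1,0,3,1,4,3,5,1,0,3,1,4,3,5,1,0,3,1,4,3,5,1,0,3,1,4,3,5,1,0,3,1,4,3,5,1,0,3,1,4,3,5,1,0,3,1,4,3,5,1,0,3,1,4,3,5,1,0,3,1,4,3,5],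
   [1,4,3,5,1,3,0,1,1,4,3,5,1,3,0,1,1,4,3,5,1,3,0,1,1,4,3,5,1,3,0,1,1,4,3,5,1,3,0,1,1,4,3,5,1,3,0,1,1,4,3,5,1,3,0,1,1,4,3,5,1,3,0,1,1,4,3,5,1,3,0,1,1,4,3,5,1,3,0,1,1,4,3,5,1,3,0,1,1,4,3,5,1,3,0,1,1,4,3,5,1,3,0,1,1,4,3,5,1,3,0,1,1,4,3,5,1,3,0,1,1,4,3,5,1,3,0,1,1,4,3,5,1,3,0,1],
   [2,5,1,3,1,0,1,2,5,1,3,1,0,1,2,5,1,3,1,0,1,2,5,1,3,1,0,1,2,5,1,3,1,0,1,2,5,1,3,1,0,1,2,5,1,3,1,0,1,2,5,1,3,1,0,1,2,5,1,3,1,0,1,2,5,1,3,1,0,1,2,5,1,3,1,0,1,2,5,1,3,1,0,1,2,5,1,3,1,0,1,2,5,1,3,1,0,1,2,5,1,3,1,0,1,2,5,1,3,1,0,1,2,5,1,3,1,0,1],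
   [1,0,1,3,1,4,1,0,1,3,1,4,1,0,1,3,1,4,1,0,1,3,1,4,1,0,1,3,1,4,1,0,1,3,1,4,1,0,1,3,1,4,1,0,1,3,1,4,1,0,1,3,1,4,1,0,1,3,1,4,1,0,1,3,1,4,1,0,1,3,1,4,1,0,1,3,1,4,1,0,1,3,1,4,1,0,1,3,1,4,1,0,1,3,1,4,1,0,1,3,1,4],
   [3,4,3,5,1,3,0,1,3,4,3,5,1,3,0,1,3,4,3,5,1,3,0,1,3,4,3,5,1,3,0,1,3,4,3,5,1,3,0,1,3,4,3,5,1,3,0,1,3,4,3,5,1,3,0,1,3,4,3,5,1,3,0,1,3,4,3,5,1,3,0,1,3,4,3,5,1,3,0,1,3,4,3,5,1,3,0,1,3,4,3,5,1,3,0,1,3,4,3,5,1,3,0,1,3,4,3,5,1,3,0,1,3,4,3,5,1,3,0,1,3,4,3,5,1,3,0,1,3,4,3,5,1,3,0,1],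
   [4,4,3,1,0,4,4,3,1,0,4,4,3,1,0,4,4,3,1,0,4,4,3,1,0,4,4,3,1,0,4,4,3,1,0,4,4,3,1,0,4,4,3,1,0,4,4,3,1,0,4,4,3,1,0,4,4,3,1,0,4,4,3,1,0,4,4,3,1,0,4,4,3,1,0,4,4,3,1,0,4,4,3,1,0],
   [0,1,3,5,0,1,3,5,0,1,3,5,0,1,3,5,0,1,3,5,0,1,3,5,0,1,3,5,0,1,3,5,0,1,3,5,0,1,3,5,0,1,3,5,0,1,3,5,0,1,3,5,0,1,3,5,0,1,3,5,0,1,3,5,0,1,3,5],
   [3,5,1,3,0,1,3,5,1,3,0,1,3,5,1,3,0,1,3,5,1,3,0,1,3,5,1,3,0,1,3,5,1,3,0,1,3,5,1,3,0,1,3,5,1,3,0,1,3,5,1,3,0,1,3,5,1,3,0,1,3,5,1,3,0,1,3,5,1,3,0,1,3,5,1,3,0,1,3,5,1,3,0,1,3,5,1,3,0,1,3,5,1,3,0,1,3,5,1,3,0,1],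
   [4,4,4],
   [0,2,0,2],
   [0,3,0,3],
   [0,4,0,5],
   [1,4,1,4],
   [2,3,2,3],
   [2,4,2,4],
   [0,3,4,0,5,3],
   [0,3,5,0,4,3],
   [1,2,1,2,1,2],
   [1,3,1,3,1,3],
   [2,3,4,2,4,3],
   [3,4,3,4,3,4],
   [0,1,2,1,2,1,0,2],
   [0,1,3,1,3,1,0,3],
   [1,3,4,3,4,3,1,5],
   [0,1,3,4,1,4,3,1,0,3],
   [0,1,3,4,3,4,3,1,0,5],
   [1,2,3,2,1,3,4,1,4,3],
   [1,2,4,2,1,3,4,3,4,3],
   [1,3,4,1,3,5,3,1,5,3,4,3,4],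
   [0,1,2,4,2,1,0,1,3,5,3,5,3,1],
   [1,2,1,2,1,3,4,1,2,1,2,1,4,3],
   [0,1,0,1,2,1,0,1,0,1,2,1,0,1,2],
   [0,1,0,1,2,1,0,1,0,2,1,0,2,1,2],
   [0,1,2,1,2,1,0,1,2,4,3,1,3,1,3,4,2,1],
   [0,1,0,1,0,1,0,1,2,1,0,1,0,1,0,1,0,2,1,2],
   [0,1,0,1,0,1,0,1,3,1,0,1,0,1,0,1,0,1,3,1],
   [0,1,2,3,1,0,1,2,3,1,0,1,2,3,1,0,1,3,2,1],
   [0,1,3,1,3,1,0,1,3,4,2,1,3,2,3,1,2,4,3,1],
   [0,1,0,1,0,1,2,1,0,1,0,2,1,0,1,0,3,4,2,4,3],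
   [0,1,0,1,3,1,0,2,1,0,1,3,1,0,2,1,0,1,3,1,2]]

/-- The words of the subgroup. -/
def subs : List (List Nat) :=
  [[0],
   [2,3,1,2,0,1,3,2],
   [3,1,4,3,5,2,1,3]]

end Cfsg.Agent.Lib.CosetCert.D.HeN.Lv0.Tab
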